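import Mathlib
import Cfsg.Prelude.Def_Perm
import Cfsg.Agent.ClassicalGeometry.AutPSL.Main
import Cfsg.Agent.ClassicalGeometry.PSL2Basic
import Cfsg.Agent.ClassicalGeometry.PSL2ElemOrder
import Cfsg.Agent.ClassicalGeometry.NonsplitTorus
import Cfsg.Agent.ClassicalGeometry.SL2Order
import Cfsg.Agent.LieRecognition.FieldSemilinear

/-!
# S3691, row `PSL₂(q)`: the automorphism group of `PSL₂(q)` as `PΓL₂(q)` (helper454)
-/

set_option autoImplicit false
set_option linter.unusedSectionVars false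

namespace Cfsg.Agent.H454.Reg.Two

open Matrix
open Cfsg.Agent.ClassicalGeometry.AutPSL.Root
open Cfsg.Agent.ClassicalGeometry.AutPSL.Auto
open Cfsg.Agent.ClassicalGeometry.AutPSL.Main
open Cfsg.Agent.ClassicalGeometry.AutPSL.FieldAutTwo
open Cfsg.Agent.ClassicalGeometry.AutPSL.SylowU

variable {F : Type*} [Field F]

/-- `α` is represented by the semilinear map `(A, σ)` -/
def Rep (α : MulAut (ProjectiveSpecialLinearGroup (Fin 2) F)) (A : GL (Fin 2) F) (σ : F ≃+* F) : Prop :=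
  α = lift (cj A * fld σ)

theorem exists_rep [Fintype F] (α : MulAut (ProjectiveSpecialLinearGroup (Fin 2) F)) : ∃ A σ, Rep α A σ := by
  obtain ⟨p, hp⟩ := CharP.exists F
  obtain ⟨n, hp', hn⟩ := FiniteField.card F p
  have : Fact p.Prime := ⟨hp'⟩
  exact surj_two p α

theorem Rep.uniq {α : MulAut (ProjectiveSpecialLinearGroup (Fin 2) F)} {A B : GL (Fin 2) F} {σ τ : F ≃+* F}
    (h : Rep α A σ) (h' : Rep α B τ) : (∃ c : F, c ≠ 0 ∧ (A : Matrix (Fin 2) (Fin 2) F) = c • (B : Matrix (Fin 2) (Fin 2) F)) ∧ σ = τ := by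
  have h0 : lift (cj A * fld σ) = lift (cj B * fld τ) := h.symm.trans h'
  have h1 : lift (cj (B⁻¹ * A) * fld σ) = lift (fld τ) := by
    rw [map_mul cj, map_inv, mul_assoc, map_mul, h0, ← map_mul, ← mul_assoc, inv_mul_cancel, one_mul]
  obtain ⟨⟨r, hr⟩, hσ⟩ := injective_aux h1
  have h2 : (A : Matrix (Fin 2) (Fin 2) F) = r • (B : Matrix (Fin 2) (Fin 2) F) := by
    have h3 : (A : Matrix (Fin 2) (Fin 2) F) = (B : Matrix (Fin 2) (Fin 2) F) * ((B⁻¹ * A : GL (Fin 2) F) : Matrix (Fin 2) (Fin 2) F) := by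
      rw [← Units.val_mul, mul_inv_cancel_left]
    rw [h3, ← hr]
    ext i j
    simp [Matrix.mul_apply, Matrix.scalar_apply, Matrix.diagonal_apply]
    fin_cases j <;> simp [mul_comm]
  refine ⟨⟨r, ?_, h2⟩, hσ⟩
  rintro rfl
  rw [zero_smul] at h2
  exact A.ne_zero h2

/-- the image of a matrix under a field automorphism -/
noncomputable def fm (σ : F ≃+* F) : GL (Fin 2) F →* GL (Fin 2) F := Matrix.GeneralLinearGroup.map (σ : F →+* F)

theorem coe_fm (σ : F ≃+* F) (A : GL (Fin 2) F) (i j : Fin 2) : (fm σ A : Matrix (Fin 2) (Fin 2) F) i j = σ ((A : Matrix (Fin 2) (Fin 2) F) i j) := rfl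

theorem fld_mul_cj (σ : F ≃+* F) (A : GL (Fin 2) F) : fld σ * cj A = cj (fm σ A) * fld σ := by
  apply MulEquiv.ext
  intro g
  apply Subtype.ext
  ext i j
  change (fld σ (cj A g) : Matrix (Fin 2) (Fin 2) F) i j = (cj (fm σ A) (fld σ g) : Matrix (Fin 2) (Fin 2) F) i j
  rw [coe_fld_apply, coe_cj, coe_cj, ← map_inv, Matrix.mul_apply, Matrix.mul_apply, map_sum]
  simp only [map_mul, Matrix.mul_apply, map_sum, coe_fm, coe_fld_apply]

theorem Rep.mul {α β : MulAut (ProjectiveSpecialLinearGroup (Fin 2) F)} {A B : GL (Fin 2) F} {σ τ : F ≃+* F}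
    (h : Rep α A σ) (h' : Rep β B τ) : Rep (α * β) (A * fm σ B) (σ * τ) := by
  rw [Rep] at h h' ⊢
  rw [h, h', ← map_mul, map_mul cj, map_mul fld, mul_assoc (cj A), ← mul_assoc (fld σ), fld_mul_cj]
  simp only [mul_assoc]

theorem rep_one : Rep (1 : MulAut (ProjectiveSpecialLinearGroup (Fin 2) F)) 1 1 := by
  rw [Rep, map_one, map_one, mul_one, map_one]

/-- inner automorphisms -/
theorem rep_conj (x : SpecialLinearGroup (Fin 2) F) : Rep (MulAut.conj (pr x)) (Matrix.SpecialLinearGroup.toGL x) 1 := by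
  rw [Rep, map_one, mul_one]
  apply MulEquiv.ext
  intro y
  obtain ⟨y, rfl⟩ := pr_surjective y
  rw [MulAut.conj_apply, lift_pr, ← map_inv, ← map_mul, ← map_mul]
  congr 1

variable [Fintype F]

/-- the field automorphism of an automorphism of `PSL₂(F)` -/
noncomputable def sg : MulAut (ProjectiveSpecialLinearGroup (Fin 2) F) →* (F ≃+* F) :=
  MonoidHom.mk' (fun α => (exists_rep α).choose_spec.choose) fun α β =>
    (((exists_rep (α * β)).choose_spec.choose_spec).uniq
      (((exists_rep α).choose_spec.choose_spec).mul ((exists_rep β).choose_spec.choose_spec))).2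

theorem Rep.sg_eq {α : MulAut (ProjectiveSpecialLinearGroup (Fin 2) F)} {A : GL (Fin 2) F} {σ : F ≃+* F}
    (h : Rep α A σ) : sg α = σ := (((exists_rep α).choose_spec.choose_spec).uniq h).2

/-! ### the ring automorphisms of the matrix ring -/

/-- `X ↦ A σ(X) A⁻¹` -/
noncomputable def rg (A : GL (Fin 2) F) (σ : F ≃+* F) : Matrix (Fin 2) (Fin 2) F ≃+* Matrix (Fin 2) (Fin 2) F where
  toFun X := (A : Matrix (Fin 2) (Fin 2) F) * X.map σ * ((A⁻¹ : GL (Fin 2) F) : Matrix (Fin 2) (Fin 2) F)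
  invFun X := (((A⁻¹ : GL (Fin 2) F) : Matrix (Fin 2) (Fin 2) F) * X * (A : Matrix (Fin 2) (Fin 2) F)).map σ.symm
  left_inv X := by
    have h1 : ((A⁻¹ : GL (Fin 2) F) : Matrix (Fin 2) (Fin 2) F) * (A : Matrix (Fin 2) (Fin 2) F) = 1 := by
      rw [← Units.val_mul, inv_mul_cancel, Units.val_one]
    have h2 : ((A⁻¹ : GL (Fin 2) F) : Matrix (Fin 2) (Fin 2) F) * ((A : Matrix (Fin 2) (Fin 2) F) * X.map σ *
        ((A⁻¹ : GL (Fin 2) F) : Matrix (Fin 2) (Fin 2) F)) * (A : Matrix (Fin 2) (Fin 2) F) = X.map σ := by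
      calc _ = (((A⁻¹ : GL (Fin 2) F) : Matrix (Fin 2) (Fin 2) F) * (A : Matrix (Fin 2) (Fin 2) F)) * X.map σ *
          (((A⁻¹ : GL (Fin 2) F) : Matrix (Fin 2) (Fin 2) F) * (A : Matrix (Fin 2) (Fin 2) F)) := by simp only [mul_assoc]
        _ = _ := by rw [h1, one_mul, mul_one]
    change (((A⁻¹ : GL (Fin 2) F) : Matrix (Fin 2) (Fin 2) F) * ((A : Matrix (Fin 2) (Fin 2) F) * X.map σ *
        ((A⁻¹ : GL (Fin 2) F) : Matrix (Fin 2) (Fin 2) F)) * (A : Matrix (Fin 2) (Fin 2) F)).map σ.symm = X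
    rw [h2]
    ext i j
    exact σ.symm_apply_apply _
  right_inv X := by
    have h1 : (A : Matrix (Fin 2) (Fin 2) F) * ((A⁻¹ : GL (Fin 2) F) : Matrix (Fin 2) (Fin 2) F) = 1 := by
      rw [← Units.val_mul, mul_inv_cancel, Units.val_one]
    have h2 : ((((A⁻¹ : GL (Fin 2) F) : Matrix (Fin 2) (Fin 2) F) * X * (A : Matrix (Fin 2) (Fin 2) F)).map σ.symm).map σ =
        ((A⁻¹ : GL (Fin 2) F) : Matrix (Fin 2) (Fin 2) F) * X * (A : Matrix (Fin 2) (Fin 2) F) := by
      ext i j
      exact σ.apply_symm_apply _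
    change (A : Matrix (Fin 2) (Fin 2) F) * ((((A⁻¹ : GL (Fin 2) F) : Matrix (Fin 2) (Fin 2) F) * X * (A : Matrix (Fin 2) (Fin 2) F)).map σ.symm).map σ *
      ((A⁻¹ : GL (Fin 2) F) : Matrix (Fin 2) (Fin 2) F) = X
    rw [h2]
    calc _ = ((A : Matrix (Fin 2) (Fin 2) F) * ((A⁻¹ : GL (Fin 2) F) : Matrix (Fin 2) (Fin 2) F)) * X *
          ((A : Matrix (Fin 2) (Fin 2) F) * ((A⁻¹ : GL (Fin 2) F) : Matrix (Fin 2) (Fin 2) F)) := by simp only [mul_assoc]
        _ = _ := by rw [h1, one_mul, mul_one]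
  map_mul' X Y := by
    have h1 : ((A⁻¹ : GL (Fin 2) F) : Matrix (Fin 2) (Fin 2) F) * (A : Matrix (Fin 2) (Fin 2) F) = 1 := by
      rw [← Units.val_mul, inv_mul_cancel, Units.val_one]
    have h2 : (X * Y).map σ = X.map σ * Y.map σ := Matrix.map_mul (f := (σ : F →+* F))
    rw [h2]
    calc (A : Matrix (Fin 2) (Fin 2) F) * (X.map σ * Y.map σ) * ((A⁻¹ : GL (Fin 2) F) : Matrix (Fin 2) (Fin 2) F)
        = (A : Matrix (Fin 2) (Fin 2) F) * X.map σ * 1 * Y.map σ * ((A⁻¹ : GL (Fin 2) F) : Matrix (Fin 2) (Fin 2) F) := by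
          simp only [mul_assoc, one_mul]
      _ = _ := by rw [← h1]; simp only [mul_assoc]
  map_add' X Y := by
    have h2 : (X + Y).map σ = X.map σ + Y.map σ := Matrix.map_add _ (map_add σ) X Y
    rw [h2, mul_add, add_mul]

theorem rg_apply (A : GL (Fin 2) F) (σ : F ≃+* F) (X : Matrix (Fin 2) (Fin 2) F) :
    rg A σ X = (A : Matrix (Fin 2) (Fin 2) F) * X.map σ * ((A⁻¹ : GL (Fin 2) F) : Matrix (Fin 2) (Fin 2) F) := rfl

theorem rg_mul (A B : GL (Fin 2) F) (σ τ : F ≃+* F) : rg (A * fm σ B) (σ * τ) = rg A σ * rg B τ := by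
  apply RingEquiv.ext
  intro X
  change _ = rg A σ (rg B τ X)
  rw [rg_apply, rg_apply, rg_apply, _root_.mul_inv_rev, ← map_inv, Units.val_mul, Units.val_mul]
  have h1 : ((B : Matrix (Fin 2) (Fin 2) F) * X.map τ * ((B⁻¹ : GL (Fin 2) F) : Matrix (Fin 2) (Fin 2) F)).map σ =
      (fm σ B : Matrix (Fin 2) (Fin 2) F) * X.map (σ * τ : F ≃+* F) * ((fm σ B⁻¹ : GL (Fin 2) F) : Matrix (Fin 2) (Fin 2) F) := by
    ext i j
    simp only [Matrix.map_apply, Matrix.mul_apply, map_sum, map_mul, coe_fm]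
    rfl
  rw [h1]
  simp only [mul_assoc]

theorem rg_eq_of_smul {A B : GL (Fin 2) F} {c : F} (hc : c ≠ 0)
    (h : (A : Matrix (Fin 2) (Fin 2) F) = c • (B : Matrix (Fin 2) (Fin 2) F)) (σ : F ≃+* F) : rg A σ = rg B σ := by
  apply RingEquiv.ext
  intro X
  have h1 : ((A⁻¹ : GL (Fin 2) F) : Matrix (Fin 2) (Fin 2) F) = c⁻¹ • ((B⁻¹ : GL (Fin 2) F) : Matrix (Fin 2) (Fin 2) F) := by
    have h2 : (A : Matrix (Fin 2) (Fin 2) F) * (c⁻¹ • ((B⁻¹ : GL (Fin 2) F) : Matrix (Fin 2) (Fin 2) F)) = 1 := by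
      rw [h, smul_mul_smul_comm, mul_inv_cancel₀ hc, one_smul, ← Units.val_mul, mul_inv_cancel, Units.val_one]
    calc ((A⁻¹ : GL (Fin 2) F) : Matrix (Fin 2) (Fin 2) F)
        = ((A⁻¹ : GL (Fin 2) F) : Matrix (Fin 2) (Fin 2) F) * ((A : Matrix (Fin 2) (Fin 2) F) * (c⁻¹ • ((B⁻¹ : GL (Fin 2) F) : Matrix (Fin 2) (Fin 2) F))) := by
          rw [h2, mul_one]
      _ = _ := by rw [← mul_assoc, ← Units.val_mul, inv_mul_cancel, Units.val_one, one_mul]
  rw [rg_apply, rg_apply, h1, h, smul_mul_assoc, smul_mul_smul_comm, mul_inv_cancel₀ hc, one_smul]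

/-- the ring automorphism of an automorphism of `PSL₂(F)` -/
noncomputable def Th : MulAut (ProjectiveSpecialLinearGroup (Fin 2) F) →* (Matrix (Fin 2) (Fin 2) F ≃+* Matrix (Fin 2) (Fin 2) F) :=
  MonoidHom.mk' (fun α => rg (exists_rep α).choose (exists_rep α).choose_spec.choose) fun α β => by
    obtain ⟨⟨c, hc, h1⟩, h2⟩ := ((exists_rep (α * β)).choose_spec.choose_spec).uniq
      (((exists_rep α).choose_spec.choose_spec).mul ((exists_rep β).choose_spec.choose_spec))
    rw [← rg_mul, ← h2]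
    exact rg_eq_of_smul hc h1 _

theorem Rep.Th_eq {α : MulAut (ProjectiveSpecialLinearGroup (Fin 2) F)} {A : GL (Fin 2) F} {σ : F ≃+* F}
    (h : Rep α A σ) : Th α = rg A σ := by
  obtain ⟨⟨c, hc, h1⟩, h2⟩ := ((exists_rep α).choose_spec.choose_spec).uniq h
  rw [← h2]
  exact rg_eq_of_smul hc h1 _

/-- `α (pr x) = pr (Θ(α) x)` -/
theorem Th_pr (α : MulAut (ProjectiveSpecialLinearGroup (Fin 2) F)) (x : SpecialLinearGroup (Fin 2) F) :
    ∃ y : SpecialLinearGroup (Fin 2) F, (y : Matrix (Fin 2) (Fin 2) F) = Th α (x : Matrix (Fin 2) (Fin 2) F) ∧ α (pr x) = pr y := by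
  obtain ⟨A, σ, h⟩ := exists_rep α
  refine ⟨cj A (fld σ x), ?_, ?_⟩
  · rw [h.Th_eq, rg_apply, coe_cj]
    rfl
  · rw [h, lift_pr]
    rfl

/-! ### the affine group -/

theorem Rep.of_smul {α : MulAut (ProjectiveSpecialLinearGroup (Fin 2) F)} {A B : GL (Fin 2) F} {σ : F ≃+* F} {c : F} (hc : c ≠ 0)
    (hAB : (A : Matrix (Fin 2) (Fin 2) F) = c • (B : Matrix (Fin 2) (Fin 2) F)) (h : Rep α A σ) : Rep α B σ := by
  have h1 : cj (B⁻¹ * A) = 1 := by
    apply cj_eq_one_of_scalar (r := c)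
    rw [Units.val_mul, hAB, mul_smul_comm, ← Units.val_mul, inv_mul_cancel, Units.val_one]
    ext i j
    simp [Matrix.scalar_apply, Matrix.diagonal_apply, Matrix.one_apply]
  have h2 : cj A = cj B := by
    rw [map_mul, map_inv, inv_mul_eq_one] at h1
    exact h1.symm
  rw [Rep] at h ⊢
  rw [← h2]
  exact h

/-- `[[a, b], [0, 1]]` -/
noncomputable def affM (a : Fˣ) (b : F) : GL (Fin 2) F :=
  Matrix.GeneralLinearGroup.mkOfDetNeZero !![(a : F), b; 0, 1] (by rw [Matrix.det_fin_two_of]; simp)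

theorem coe_affM (a : Fˣ) (b : F) : (affM a b : Matrix (Fin 2) (Fin 2) F) = !![(a : F), b; 0, 1] := rfl

/-- `α` is the affine semilinear map `x ↦ a σ(x) + b` -/
def Aff (α : MulAut (ProjectiveSpecialLinearGroup (Fin 2) F)) (a : Fˣ) (b : F) (σ : F ≃+* F) : Prop := Rep α (affM a b) σ

theorem Aff.mul {α β : MulAut (ProjectiveSpecialLinearGroup (Fin 2) F)} {a c : Fˣ} {b d : F} {σ τ : F ≃+* F}
    (h : Aff α a b σ) (h' : Aff β c d τ) :
    Aff (α * β) (a * Units.map (σ : F →* F) c) ((a : F) * σ d + b) (σ * τ) := by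
  have h1 := Rep.mul h h'
  have h2 : affM a b * fm σ (affM c d) = affM (a * Units.map (σ : F →* F) c) ((a : F) * σ d + b) := by
    apply Units.ext
    rw [Units.val_mul, coe_affM, coe_affM]
    ext i j
    rw [Matrix.mul_apply, Fin.sum_univ_two, coe_fm, coe_fm, coe_affM]
    fin_cases i <;> fin_cases j <;> simp
  rw [h2] at h1
  exact h1

theorem Aff.uniq {α : MulAut (ProjectiveSpecialLinearGroup (Fin 2) F)} {a c : Fˣ} {b d : F} {σ τ : F ≃+* F}
    (h : Aff α a b σ) (h' : Aff α c d τ) : a = c ∧ b = d ∧ σ = τ := by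
  obtain ⟨⟨r, hr, h1⟩, h2⟩ := Rep.uniq h h'
  rw [coe_affM, coe_affM] at h1
  have e11 := congrFun (congrFun h1 1) 1
  have e00 := congrFun (congrFun h1 0) 0
  have e01 := congrFun (congrFun h1 0) 1
  simp at e11 e00 e01
  subst e11
  rw [one_mul] at e00 e01
  exact ⟨Units.ext e00, e01, h2⟩

/-- the permutation `x ↦ a σ(x) + b` -/
def affP (a : Fˣ) (b : F) (σ : F ≃+* F) : Equiv.Perm F where
  toFun x := (a : F) * σ x + b
  invFun x := σ.symm (((a⁻¹ : Fˣ) : F) * (x - b))
  left_inv x := by simp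
  right_inv x := by simp

theorem affP_apply (a : Fˣ) (b : F) (σ : F ≃+* F) (x : F) : affP a b σ x = (a : F) * σ x + b := rfl

theorem affP_mul (a c : Fˣ) (b d : F) (σ τ : F ≃+* F) :
    affP (a * Units.map (σ : F →* F) c) ((a : F) * σ d + b) (σ * τ) = affP a b σ * affP c d τ := by
  apply Equiv.ext
  intro x
  rw [Equiv.Perm.mul_apply, affP_apply, affP_apply, affP_apply, map_add, map_mul]
  change ((a : F) * σ c) * σ (τ x) + _ = _
  ring

theorem affP_inj {a c : Fˣ} {b d : F} {σ τ : F ≃+* F} (h : affP a b σ = affP c d τ) : a = c ∧ b = d ∧ σ = τ := by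
  have h0 := Equiv.congr_fun h 0
  rw [affP_apply, affP_apply, map_zero, map_zero, mul_zero, mul_zero, zero_add, zero_add] at h0
  have h1 := Equiv.congr_fun h 1
  rw [affP_apply, affP_apply, map_one, map_one, mul_one, mul_one, h0] at h1
  have h2 : (a : F) = c := add_right_cancel h1
  refine ⟨Units.ext h2, h0, ?_⟩
  apply RingEquiv.ext
  intro x
  have h3 := Equiv.congr_fun h x
  rw [affP_apply, affP_apply, h0, h2] at h3
  exact mul_left_cancel₀ c.ne_zero (add_right_cancel h3)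

/-- a group of affine semilinear maps is a group of semiaffine permutations -/
theorem exists_perm_hom {B : Type*} [Group B] (φ : B →* MulAut (ProjectiveSpecialLinearGroup (Fin 2) F)) (hφ : Function.Injective φ)
    (h : ∀ b, ∃ (a : Fˣ) (c : F) (σ : F ≃+* F), Aff (φ b) a c σ) :
    ∃ f : B →* Equiv.Perm F, Function.Injective f ∧ f.range ≤ Cfsg.semiaffineGroup F := by
  choose a c σ hb using h
  refine ⟨MonoidHom.mk' (fun b => affP (a b) (c b) (σ b)) fun b b' => ?_, ?_, ?_⟩
  · have h1 := hb (b * b')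
    rw [map_mul] at h1
    obtain ⟨e1, e2, e3⟩ := h1.uniq ((hb b).mul (hb b'))
    rw [e1, e2, e3, affP_mul]
  · intro b b' hbb
    obtain ⟨e1, e2, e3⟩ := affP_inj hbb
    apply hφ
    have h1 := hb b
    rw [e1, e2, e3] at h1
    exact h1.trans (hb b').symm
  · rintro _ ⟨b, rfl⟩
    exact ⟨a b, c b, σ b, fun x => rfl⟩

/-- upper triangular representatives are affine -/
theorem Rep.aff {α : MulAut (ProjectiveSpecialLinearGroup (Fin 2) F)} {A : GL (Fin 2) F} {σ : F ≃+* F}
    (h : Rep α A σ) (h0 : (A : Matrix (Fin 2) (Fin 2) F) 1 0 = 0) : ∃ (a : Fˣ) (b : F), Aff α a b σ := by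
  have hdet : (A : Matrix (Fin 2) (Fin 2) F).det ≠ 0 := by
    have := (Matrix.isUnit_iff_isUnit_det _).1 A.isUnit
    exact this.ne_zero
  rw [Matrix.det_fin_two, h0, mul_zero, sub_zero] at hdet
  have ha : (A : Matrix (Fin 2) (Fin 2) F) 0 0 ≠ 0 := left_ne_zero_of_mul hdet
  have hd : (A : Matrix (Fin 2) (Fin 2) F) 1 1 ≠ 0 := right_ne_zero_of_mul hdet
  refine ⟨Units.mk0 _ (div_ne_zero ha hd), (A : Matrix (Fin 2) (Fin 2) F) 0 1 / (A : Matrix (Fin 2) (Fin 2) F) 1 1, ?_⟩
  refine h.of_smul hd ?_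
  rw [coe_affM]
  ext i j
  fin_cases i <;> fin_cases j <;> simp [h0, mul_div_cancel₀ _ hd]

/-- an automorphism which maps a nontrivial upper unitriangular element to an upper unitriangular element is affine -/
theorem aff_of_map {α : MulAut (ProjectiveSpecialLinearGroup (Fin 2) F)} {t s : F} (ht : t ≠ 0)
    (h : α (pr (X t)) = pr (X s)) : ∃ (a : Fˣ) (b : F) (σ : F ≃+* F), Aff α a b σ := by
  obtain ⟨A, σ, hA⟩ := exists_rep α
  have h1 : α (pr (X t)) = pr (cj A (X (σ t))) := by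
    rw [hA, lift_pr, MulAut.mul_apply]
    unfold X
    rw [fld_transvection]
  rw [h1] at h
  have h2 := cj_transvection_eq h
  have h3 := congrFun (congrFun h2 1) 1
  have h4 : (A : Matrix (Fin 2) (Fin 2) F) 1 0 = 0 := by
    have hσ : σ t ≠ 0 := by
      rw [Ne, map_eq_zero_iff σ σ.injective]
      exact ht
    simp [Matrix.mul_apply, Fin.sum_univ_two, Matrix.single_apply] at h3
    exact h3.resolve_right ht
  obtain ⟨a, b, hab⟩ := hA.aff h4
  exact ⟨a, b, σ, hab⟩

end Cfsg.Agent.H454.Reg.Two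

/-!
# S3691, row `PSL₂(q)`: nonsplit tori (helper454)

* `Irr g` : `α + β g` is invertible unless `α = β = 0`;  `irr_of_order`
* `two_mul_le` : `2 (q + 1) ≤ |N(⟨pr g⟩)| (2, q - 1)`
* `metacyclic` : a group of automorphisms of `PSL₂(q)` normalising `⟨pr g⟩` is metacyclic
-/

set_option autoImplicit false
set_option linter.unusedSectionVars false
set_option linter.style.haveILetI false

namespace Cfsg.Agent.H454.Reg.Two

open Matrix
open Cfsg.Agent.ClassicalGeometry.AutPSL.Root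
open Cfsg.Agent.ClassicalGeometry.AutPSL.Auto
open Cfsg.Agent.ClassicalGeometry.AutPSL.Main
open Cfsg.Agent.ClassicalGeometry.NonsplitTorus

variable {F : Type*} [Field F]

/-- all nonzero combinations of `1` and `g` are invertible -/
def Irr (g : SpecialLinearGroup (Fin 2) F) : Prop :=
  ∀ α β : F, (α • (1 : Matrix (Fin 2) (Fin 2) F) + β • (g : Matrix (Fin 2) (Fin 2) F)).det = 0 → α = 0 ∧ β = 0

theorem Irr.nonscalar {g : SpecialLinearGroup (Fin 2) F} (hg : Irr g) (c : F) :
    (g : Matrix (Fin 2) (Fin 2) F) ≠ c • (1 : Matrix (Fin 2) (Fin 2) F) := by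
  intro h
  have h1 := hg c (-1) (by
    rw [h, smul_smul, ← add_smul, show c + -1 * c = 0 by ring, zero_smul]
    simp)
  exact neg_ne_zero.2 one_ne_zero h1.2

theorem pow_mul_eq {M n : Matrix (Fin 2) (Fin 2) F} {μ : F} (h : M * n = μ • n) (j : ℕ) : M ^ j * n = μ ^ j • n := by
  induction j with
  | zero => simp
  | succ j ih => rw [pow_succ, mul_assoc, h, mul_smul_comm, ih, smul_smul, pow_succ, mul_comm]

theorem irr_of_order [Fintype F] {q : ℕ} (hF : Fintype.card F = q) (p : ℕ) [Fact p.Prime] [CharP F p]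
    (g : SpecialLinearGroup (Fin 2) F) (h3 : 3 ≤ orderOf (pr g)) (hk : orderOf (pr g) ∣ q + 1) : Irr g := by
  have hp : p.Prime := Fact.out
  obtain ⟨n, -, hn⟩ := FiniteField.card F p
  have hpq : p ∣ q := by
    rw [← hF, hn]
    exact dvd_pow_self p n.ne_zero
  have hq1 : 1 < q := by rw [← hF]; exact Fintype.one_lt_card
  have hA : ¬ g ^ (q - 1) = 1 := by
    intro h
    have h1 : orderOf (pr g) ∣ q - 1 := by
      apply orderOf_dvd_of_pow_eq_one
      rw [← map_pow, h, map_one]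
    have h2 : orderOf (pr g) ∣ 2 := by
      have h4 := Nat.dvd_sub hk h1
      have h5 : q + 1 - (q - 1) = 2 := by omega
      rwa [h5] at h4
    have := Nat.le_of_dvd (by norm_num) h2
    omega
  have hB : ¬ g ^ (2 * p) = 1 := by
    intro h
    have h1 : orderOf (pr g) ∣ 2 * p := by
      apply orderOf_dvd_of_pow_eq_one
      rw [← map_pow, h, map_one]
    have h2 : Nat.Coprime (orderOf (pr g)) p := by
      rw [Nat.Coprime, Nat.eq_one_iff_not_exists_prime_dvd]
      intro r hr hd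
      have h4 : r ∣ p := hd.trans (Nat.gcd_dvd_right _ _)
      have h5 : r ∣ q + 1 := (hd.trans (Nat.gcd_dvd_left _ _)).trans hk
      have h6 : r ∣ 1 := (Nat.dvd_add_right (h4.trans hpq)).1 h5
      exact hr.one_lt.ne' (Nat.dvd_one.1 h6)
    have h4 : orderOf (pr g) ∣ 2 := h2.dvd_of_dvd_mul_right h1
    have := Nat.le_of_dvd (by norm_num) h4
    omega
  have hC : g ^ (q + 1) = 1 := by
    rcases Cfsg.Agent.ClassicalGeometry.SL2Order.pow_cases hF p g with h | h | h
    · exact absurd h hA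
    · exact h
    · exact absurd h hB
  intro α β hdet
  by_cases hβ : β = 0
  · subst hβ
    rw [zero_smul, add_zero, Matrix.det_smul, Fintype.card_fin, Matrix.det_one, mul_one] at hdet
    exact ⟨pow_eq_zero_iff (two_ne_zero) |>.1 hdet, rfl⟩
  exfalso
  -- the eigenvalue
  obtain ⟨l, hl⟩ : ∃ l : F, l = -α / β := ⟨_, rfl⟩
  set M : Matrix (Fin 2) (Fin 2) F := (g : Matrix (Fin 2) (Fin 2) F) with hM
  have hα : α = -(β * l) := by
    rw [hl]
    field_simp
    try ring
  have hMdet : M.det = 1 := g.2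
  have hchar : l * l - M.trace * l + 1 = 0 := by
    have h1 : (α • (1 : Matrix (Fin 2) (Fin 2) F) + β • M).det = β ^ 2 * (l * l - M.trace * l + M.det) := by
      rw [Matrix.det_fin_two, Matrix.det_fin_two, Matrix.trace_fin_two, hα]
      simp [Matrix.add_apply, Matrix.smul_apply]
      ring
    rw [h1, hMdet] at hdet
    exact (mul_eq_zero.1 hdet).resolve_left (pow_ne_zero 2 hβ)
  have hl0 : l ≠ 0 := by
    rintro rfl
    simp at hchar
  have hCH := mul_self_eq M
  rw [hMdet, one_smul] at hCH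
  have htr : M.trace = l + l⁻¹ := by
    field_simp
    linear_combination -hchar
  -- `n = M - l`
  obtain ⟨n', hn'⟩ : ∃ n' : Matrix (Fin 2) (Fin 2) F, n' = M - l • (1 : Matrix (Fin 2) (Fin 2) F) := ⟨_, rfl⟩
  have hn0 : n' ≠ 0 := by
    intro h
    rw [hn', sub_eq_zero] at h
    -- `g` is scalar
    have h1 : pr g = 1 := by
      have h2 := pr_eq_of_smul (x := 1) (y := g) (c := l) (by
        rw [Matrix.SpecialLinearGroup.coe_one]
        exact h)
      rw [← h2, map_one]
    rw [h1, orderOf_one] at h3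
    omega
  have hmul : M * n' = l⁻¹ • n' := by
    rw [hn', mul_sub, hCH, htr, mul_smul_comm, mul_one, smul_sub, smul_smul, inv_mul_cancel₀ hl0, one_smul, add_smul]
    abel
  have hpow := pow_mul_eq hmul (q + 1)
  have hMq : M ^ (q + 1) = 1 := by
    rw [hM, ← Matrix.SpecialLinearGroup.coe_pow, hC, Matrix.SpecialLinearGroup.coe_one]
  rw [hMq, one_mul] at hpow
  have hl2 : l⁻¹ * l⁻¹ = 1 := by
    have h1 : l⁻¹ ^ (q + 1) = 1 := by
      by_contra hne
      have h2 : (1 - l⁻¹ ^ (q + 1)) • n' = 0 := by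
        rw [sub_smul, one_smul, ← hpow, sub_self]
      rcases smul_eq_zero.1 h2 with h4 | h4
      · exact hne (sub_eq_zero.1 h4).symm
      · exact hn0 h4
    have h2 : l⁻¹ ^ q = l⁻¹ := by rw [← hF]; exact FiniteField.pow_card _
    rw [pow_succ, h2] at h1
    exact h1
  have hll : l⁻¹ = l := by
    have : l⁻¹ * l⁻¹ * l = l := by rw [hl2, one_mul]
    rw [mul_assoc, inv_mul_cancel₀ hl0, mul_one] at this
    exact this
  have hsq : n' * n' = 0 := by
    have h1 : n' * n' = M * n' - l • n' := by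
      conv_lhs => rw [hn']
      rw [sub_mul, smul_mul_assoc, one_mul, hn']
    rw [h1, hmul, hll, sub_self]
  have hnp : n' ^ p = 0 := by
    obtain ⟨m, hm⟩ : ∃ m, p = m + 2 := ⟨p - 2, by have := hp.two_le; omega⟩
    rw [hm, pow_add, pow_two, hsq, mul_zero]
  have hcp : CharP (Matrix (Fin 2) (Fin 2) F) p := inferInstance
  have hcomm : Commute M (l • (1 : Matrix (Fin 2) (Fin 2) F)) := by
    rw [Commute, SemiconjBy, mul_smul_comm, smul_mul_assoc, mul_one, one_mul]
  have hfin : M ^ p = l ^ p • (1 : Matrix (Fin 2) (Fin 2) F) := by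
    rw [hn', sub_pow_char_of_commute p hcomm, smul_pow, one_pow, sub_eq_zero] at hnp
    exact hnp
  apply hB
  apply Subtype.ext
  rw [Matrix.SpecialLinearGroup.coe_pow, ← hM, mul_comm, pow_mul, hfin, smul_pow, one_pow, ← pow_mul, mul_comm, pow_mul]
  have h5 : l ^ 2 = 1 := by
    rw [hll] at hl2
    rw [pow_two, hl2]
  rw [h5, one_pow, one_smul]
  rfl

/-! ### the normaliser -/

/-- the elements of `GL₂` which centralise or invert `g` -/
def WW (g : SpecialLinearGroup (Fin 2) F) : Subgroup (GL (Fin 2) F) where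
  carrier := {A | A * Matrix.SpecialLinearGroup.toGL g * A⁻¹ = Matrix.SpecialLinearGroup.toGL g ∨
    A * Matrix.SpecialLinearGroup.toGL g * A⁻¹ = (Matrix.SpecialLinearGroup.toGL g)⁻¹}
  one_mem' := by left; simp
  mul_mem' := by
    rintro A B hA hB
    have key : A * B * Matrix.SpecialLinearGroup.toGL g * (A * B)⁻¹ = A * (B * Matrix.SpecialLinearGroup.toGL g * B⁻¹) * A⁻¹ := by
      group
    change _ ∨ _
    rw [key]
    rcases hB with hB | hB <;> rw [hB]
    · exact hA
    · have h1 : A * (Matrix.SpecialLinearGroup.toGL g)⁻¹ * A⁻¹ = (A * Matrix.SpecialLinearGroup.toGL g * A⁻¹)⁻¹ := by group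
      rw [h1]
      rcases hA with hA | hA <;> rw [hA]
      · right; rfl
      · left; exact inv_inv _
  inv_mem' := by
    rintro A hA
    rcases hA with hA | hA
    · left
      rw [inv_inv, mul_assoc, inv_mul_eq_iff_eq_mul, ← mul_inv_eq_iff_eq_mul.1 hA]
    · right
      have h0 : A * (Matrix.SpecialLinearGroup.toGL g)⁻¹ * A⁻¹ = (A * Matrix.SpecialLinearGroup.toGL g * A⁻¹)⁻¹ := by group
      have h1 : A * (Matrix.SpecialLinearGroup.toGL g)⁻¹ * A⁻¹ = Matrix.SpecialLinearGroup.toGL g := by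
        rw [h0, hA]; exact inv_inv _
      rw [inv_inv, mul_assoc, inv_mul_eq_iff_eq_mul, ← mul_inv_eq_iff_eq_mul.1 h1]

/-- the matrix conjugating `g` to its inverse -/
def SS (g : SpecialLinearGroup (Fin 2) F) : Matrix (Fin 2) (Fin 2) F := !![g.1 1 0, g.1 1 1 - g.1 0 0; 0, -g.1 1 0]

theorem SS_mul (g : SpecialLinearGroup (Fin 2) F) :
    SS g * (g : Matrix (Fin 2) (Fin 2) F) = ((g⁻¹ : SpecialLinearGroup (Fin 2) F) : Matrix (Fin 2) (Fin 2) F) * SS g := by
  rw [Matrix.SpecialLinearGroup.coe_inv, Matrix.adjugate_fin_two, SS]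
  ext i j
  fin_cases i <;> fin_cases j <;> simp [Matrix.mul_apply, Fin.sum_univ_two] <;> ring

theorem Irr.c_ne {g : SpecialLinearGroup (Fin 2) F} (hg : Irr g) : g.1 1 0 ≠ 0 := by
  intro h
  have h1 := hg (-(g.1 0 0)) 1 (by
    rw [Matrix.det_fin_two]
    simp [h])
  exact one_ne_zero h1.2

theorem Irr.det_ne {g : SpecialLinearGroup (Fin 2) F} (hg : Irr g) {v : F × F} (hv : v ≠ 0) :
    (v.1 • (1 : Matrix (Fin 2) (Fin 2) F) + v.2 • (g : Matrix (Fin 2) (Fin 2) F)).det ≠ 0 := by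
  intro h
  have := hg _ _ h
  exact hv (Prod.ext this.1 this.2)

theorem SS_det {g : SpecialLinearGroup (Fin 2) F} (hg : Irr g) : (SS g).det ≠ 0 := by
  rw [SS, Matrix.det_fin_two_of]
  have := hg.c_ne
  simp [this]

theorem card_WW [Fintype F] {g : SpecialLinearGroup (Fin 2) F} (hg : Irr g) (h2 : g⁻¹ ≠ g) :
    2 * (Fintype.card F ^ 2 - 1) ≤ Nat.card (WW g) := by
  classical
  -- the two families of elements
  let f1 : {v : F × F // v ≠ 0} → GL (Fin 2) F := fun v => Matrix.GeneralLinearGroup.mkOfDetNeZero _ (hg.det_ne v.2)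
  let f2 : {v : F × F // v ≠ 0} → GL (Fin 2) F := fun v => Matrix.GeneralLinearGroup.mkOfDetNeZero _ (SS_det hg) * f1 v
  have c1 : ∀ v, (f1 v : Matrix (Fin 2) (Fin 2) F) = v.1.1 • (1 : Matrix (Fin 2) (Fin 2) F) + v.1.2 • (g : Matrix (Fin 2) (Fin 2) F) := fun v => rfl
  have c2 : ∀ v, (f2 v : Matrix (Fin 2) (Fin 2) F) = SS g * (f1 v : Matrix (Fin 2) (Fin 2) F) := fun v => rfl
  have hcom : ∀ v, f1 v * Matrix.SpecialLinearGroup.toGL g = Matrix.SpecialLinearGroup.toGL g * f1 v := by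
    intro v
    apply Units.ext
    rw [Units.val_mul, Units.val_mul, c1]
    change (_ + _) * (g : Matrix (Fin 2) (Fin 2) F) = (g : Matrix (Fin 2) (Fin 2) F) * (_ + _)
    rw [add_mul, mul_add, smul_mul_assoc, smul_mul_assoc, mul_smul_comm, mul_smul_comm, one_mul, mul_one]
  have hinv : ∀ v, f2 v * Matrix.SpecialLinearGroup.toGL g = (Matrix.SpecialLinearGroup.toGL g)⁻¹ * f2 v := by
    intro v
    have h3 : Matrix.GeneralLinearGroup.mkOfDetNeZero _ (SS_det hg) * Matrix.SpecialLinearGroup.toGL g =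
        (Matrix.SpecialLinearGroup.toGL g)⁻¹ * Matrix.GeneralLinearGroup.mkOfDetNeZero _ (SS_det hg) := by
      rw [← map_inv]
      apply Units.ext
      exact SS_mul g
    change Matrix.GeneralLinearGroup.mkOfDetNeZero _ (SS_det hg) * f1 v * _ = _ * (Matrix.GeneralLinearGroup.mkOfDetNeZero _ (SS_det hg) * f1 v)
    rw [mul_assoc, hcom, ← mul_assoc, h3, mul_assoc]
  have m1 : ∀ v, f1 v ∈ WW g := fun v => Or.inl (by rw [hcom, mul_inv_cancel_right])
  have m2 : ∀ v, f2 v ∈ WW g := fun v => Or.inr (by rw [hinv, mul_inv_cancel_right])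
  have i1 : Function.Injective f1 := by
    rintro ⟨v, hv⟩ ⟨w, hw⟩ h
    have h3 := congrArg (fun A : GL (Fin 2) F => (A : Matrix (Fin 2) (Fin 2) F)) h
    simp only [c1] at h3
    have h4 := hg (v.1 - w.1) (v.2 - w.2) (by
      have : (v.1 - w.1) • (1 : Matrix (Fin 2) (Fin 2) F) + (v.2 - w.2) • (g : Matrix (Fin 2) (Fin 2) F) = 0 := by
        rw [sub_smul, sub_smul]
        have h5 := sub_eq_zero.2 h3
        rw [← h5]
        abel
      rw [this, Matrix.det_zero])
    apply Subtype.ext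
    exact Prod.ext (sub_eq_zero.1 h4.1) (sub_eq_zero.1 h4.2)
  have i2 : Function.Injective f2 := by
    intro v w h
    exact i1 (mul_left_cancel h)
  have hdis : ∀ v w, f1 v ≠ f2 w := by
    intro v w h
    have h3 := hcom v
    rw [h, hinv] at h3
    have h4 := mul_right_cancel h3
    apply h2
    apply Matrix.SpecialLinearGroup.toGL_injective
    rw [map_inv]
    exact h4
  let f : {v : F × F // v ≠ 0} ⊕ {v : F × F // v ≠ 0} → WW g := Sum.elim (fun v => ⟨f1 v, m1 v⟩) (fun v => ⟨f2 v, m2 v⟩)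
  have hf : Function.Injective f := by
    rintro (v | v) (w | w) h
    · rw [i1 (congrArg Subtype.val h)]
    · exact absurd (congrArg Subtype.val h) (hdis v w)
    · exact absurd (congrArg Subtype.val h).symm (hdis w v)
    · rw [i2 (congrArg Subtype.val h)]
  have hcard := Nat.card_le_card_of_injective f hf
  have h5 : Nat.card ({v : F × F // v ≠ 0} ⊕ {v : F × F // v ≠ 0}) = 2 * (Fintype.card F ^ 2 - 1) := by
    rw [Nat.card_sum, Nat.card_eq_fintype_card, Fintype.card_subtype_compl, Fintype.card_prod, Fintype.card_subtype_eq]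
    ring_nf
  rw [← h5]
  exact hcard

/-- `2 (q + 1) ≤ |N(⟨pr g⟩)| d` -/
theorem two_mul_le [Fintype F] {g : SpecialLinearGroup (Fin 2) F} (hg : Irr g) (h2 : g⁻¹ ≠ g) :
    2 * (Fintype.card F + 1) ≤
      Nat.card (Subgroup.normalizer (Subgroup.zpowers (pr g) : Set (ProjectiveSpecialLinearGroup (Fin 2) F))) *
        Nat.gcd 2 (Fintype.card F - 1) := by
  classical
  have hq : 1 < Fintype.card F := Fintype.one_lt_card
  -- the subgroup of `SL₂`
  obtain ⟨K, hK⟩ : ∃ K : Subgroup (SpecialLinearGroup (Fin 2) F), K = (WW g).comap Matrix.SpecialLinearGroup.toGL := ⟨_, rfl⟩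
  have hle1 : Nat.card (WW g) ≤ Nat.card K * (Fintype.card F - 1) := by
    let D : WW g →* Fˣ := (Matrix.GeneralLinearGroup.det).comp (WW g).subtype
    have e1 : Nat.card D.ker * D.ker.index = Nat.card (WW g) := Subgroup.card_mul_index _
    have e2 : D.ker.index ≤ Fintype.card F - 1 := by
      rw [Subgroup.index_ker]
      calc Nat.card D.range ≤ Nat.card Fˣ := Subgroup.card_le_card_group _
        _ = Fintype.card F - 1 := by rw [Nat.card_eq_fintype_card, Fintype.card_units]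
    have hdet : ∀ x : D.ker, ((x : WW g) : GL (Fin 2) F).1.det = 1 := by
      intro x
      have h5 := x.2
      rw [MonoidHom.mem_ker] at h5
      exact congrArg Units.val h5
    have hmem : ∀ x : D.ker, (⟨((x : WW g) : GL (Fin 2) F).1, hdet x⟩ : SpecialLinearGroup (Fin 2) F) ∈ K := by
      intro x
      have h6 : Matrix.SpecialLinearGroup.toGL (⟨((x : WW g) : GL (Fin 2) F).1, hdet x⟩ : SpecialLinearGroup (Fin 2) F) =
          ((x : WW g) : GL (Fin 2) F) := by
        apply Units.ext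
        rfl
      rw [hK]
      change Matrix.SpecialLinearGroup.toGL (⟨((x : WW g) : GL (Fin 2) F).1, hdet x⟩ : SpecialLinearGroup (Fin 2) F) ∈ WW g
      rw [h6]
      exact (x : WW g).2
    have e3 : Nat.card D.ker ≤ Nat.card K := by
      refine Nat.card_le_card_of_injective (fun x => (⟨_, hmem x⟩ : K)) ?_
      · intro x y hxy
        have h5 := congrArg (fun z : K => ((z : SpecialLinearGroup (Fin 2) F) : Matrix (Fin 2) (Fin 2) F)) hxy
        apply Subtype.ext
        apply Subtype.ext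
        exact Units.ext h5
    rw [← e1]
    exact Nat.mul_le_mul e3 e2
  have hle2 := card_WW hg h2
  have hle3 : 2 * (Fintype.card F + 1) ≤ Nat.card K := by
    have h3 : 2 * (Fintype.card F ^ 2 - 1) = 2 * (Fintype.card F + 1) * (Fintype.card F - 1) := by
      have : Fintype.card F ^ 2 - 1 = (Fintype.card F + 1) * (Fintype.card F - 1) := by
        have := Nat.sq_sub_sq (Fintype.card F) 1
        rwa [one_pow] at this
      rw [this, mul_assoc]
    rw [h3] at hle2
    exact Nat.le_of_mul_le_mul_right (hle2.trans hle1) (by omega)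
  -- down to `PSL₂`
  have hle4 : Nat.card K ≤ Nat.card (K.map (pr : SpecialLinearGroup (Fin 2) F →* _)) * Nat.gcd 2 (Fintype.card F - 1) := by
    have e1 : Nat.card (((pr : SpecialLinearGroup (Fin 2) F →* ProjectiveSpecialLinearGroup (Fin 2) F).comp K.subtype).ker) *
        ((pr : SpecialLinearGroup (Fin 2) F →* ProjectiveSpecialLinearGroup (Fin 2) F).comp K.subtype).ker.index = Nat.card K :=
      Subgroup.card_mul_index _
    have e2 : ((pr : SpecialLinearGroup (Fin 2) F →* ProjectiveSpecialLinearGroup (Fin 2) F).comp K.subtype).ker.index =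
        Nat.card (K.map (pr : SpecialLinearGroup (Fin 2) F →* _)) := by
      rw [Subgroup.index_ker, MonoidHom.range_comp, Subgroup.range_subtype]
    have hZ : Nat.card (Subgroup.center (SpecialLinearGroup (Fin 2) F)) = Nat.gcd 2 (Fintype.card F - 1) := by
      have h3 := Cfsg.Agent.ClassicalGeometry.PSL2Basic.card_PSL2_gcd (F := F)
      have h4 := Cfsg.Agent.ClassicalGeometry.PSL2Basic.card_SL2 (F := F)
      have h5 := Subgroup.card_eq_card_quotient_mul_card_subgroup (Subgroup.center (SpecialLinearGroup (Fin 2) F))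
      rw [h4, ← h3] at h5
      exact (Nat.eq_of_mul_eq_mul_left Nat.card_pos h5).symm
    have e3 : Nat.card (((pr : SpecialLinearGroup (Fin 2) F →* ProjectiveSpecialLinearGroup (Fin 2) F).comp K.subtype).ker) ≤
        Nat.gcd 2 (Fintype.card F - 1) := by
      rw [← hZ]
      refine Nat.card_le_card_of_injective (fun x => (⟨((x : K) : SpecialLinearGroup (Fin 2) F), ?_⟩ : Subgroup.center _)) ?_
      · have h5 := x.2
        rw [MonoidHom.mem_ker] at h5
        exact (QuotientGroup.eq_one_iff _).1 h5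
      · intro x y hxy
        apply Subtype.ext
        apply Subtype.ext
        exact congrArg (fun z : Subgroup.center (SpecialLinearGroup (Fin 2) F) => (z : SpecialLinearGroup (Fin 2) F)) hxy
    rw [← e1, e2, mul_comm]
    exact Nat.mul_le_mul_left _ e3
  have hle5 : K.map (pr : SpecialLinearGroup (Fin 2) F →* _) ≤
      Subgroup.normalizer (Subgroup.zpowers (pr g) : Set (ProjectiveSpecialLinearGroup (Fin 2) F)) := by
    rintro _ ⟨x, hx, rfl⟩
    have hx' : x ∈ K := hx
    have key : ∀ z ∈ K, pr z * pr g * (pr z)⁻¹ ∈ Subgroup.zpowers (pr g) := by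
      intro z hz
      rw [hK, Subgroup.mem_comap] at hz
      rcases hz with hz | hz
      · have h5 : z * g * z⁻¹ = g := by
          apply Matrix.SpecialLinearGroup.toGL_injective
          rw [map_mul, map_mul, map_inv]
          exact hz
        rw [← map_mul, ← map_inv, ← map_mul, h5]
        exact Subgroup.mem_zpowers _
      · have h5 : z * g * z⁻¹ = g⁻¹ := by
          apply Matrix.SpecialLinearGroup.toGL_injective
          rw [map_mul, map_mul, map_inv, map_inv]
          exact hz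
        rw [← map_mul, ← map_inv, ← map_mul, h5, map_inv]
        exact inv_mem (Subgroup.mem_zpowers _)
    have key2 : ∀ z ∈ K, ∀ w ∈ Subgroup.zpowers (pr g), pr z * w * (pr z)⁻¹ ∈ Subgroup.zpowers (pr g) := by
      rintro z hz _ ⟨k, rfl⟩
      simp only
      rw [← conj_zpow]
      exact Subgroup.zpow_mem _ (key z hz) k
    rw [Subgroup.mem_normalizer_iff]
    intro w
    constructor
    · exact key2 x hx' w
    · intro hw
      have h6 := key2 x⁻¹ (K.inv_mem hx') _ hw
      rw [map_inv] at h6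
      have h7 : (pr x)⁻¹ * (pr x * w * (pr x)⁻¹) * ((pr x)⁻¹)⁻¹ = w := by group
      rwa [h7] at h6
  have hle6 : Nat.card (K.map (pr : SpecialLinearGroup (Fin 2) F →* _)) ≤
      Nat.card (Subgroup.normalizer (Subgroup.zpowers (pr g) : Set (ProjectiveSpecialLinearGroup (Fin 2) F))) :=
    Subgroup.card_le_of_le hle5
  calc 2 * (Fintype.card F + 1) ≤ Nat.card K := hle3
    _ ≤ _ := hle4
    _ ≤ _ := Nat.mul_le_mul_right _ hle6

end Cfsg.Agent.H454.Reg.Two

/-!
# S3691, row `PSL₂(q)`: a group of automorphisms normalising a nonsplit torus is metacyclic (helper454)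
-/

set_option autoImplicit false
set_option linter.unusedSectionVars false
set_option linter.style.haveILetI false

namespace Cfsg.Agent.H454.Reg.Two

open Matrix
open Cfsg.Agent.ClassicalGeometry.AutPSL.Root
open Cfsg.Agent.ClassicalGeometry.AutPSL.Auto
open Cfsg.Agent.ClassicalGeometry.AutPSL.Main
open Cfsg.Agent.ClassicalGeometry.NonsplitTorus

variable {F : Type*} [Field F]

/-- the commutant of `g` -/
def KK (g : SpecialLinearGroup (Fin 2) F) : Subring (Matrix (Fin 2) (Fin 2) F) :=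
  Subring.centralizer {(g : Matrix (Fin 2) (Fin 2) F)}

theorem mem_KK {g : SpecialLinearGroup (Fin 2) F} {X : Matrix (Fin 2) (Fin 2) F} :
    X ∈ KK g ↔ (g : Matrix (Fin 2) (Fin 2) F) * X = X * (g : Matrix (Fin 2) (Fin 2) F) := by
  rw [KK, Subring.mem_centralizer_iff]
  simp

theorem Irr.form {g : SpecialLinearGroup (Fin 2) F} (hg : Irr g) {X : Matrix (Fin 2) (Fin 2) F} (hX : X ∈ KK g) :
    ∃ α β : F, X = α • (1 : Matrix (Fin 2) (Fin 2) F) + β • (g : Matrix (Fin 2) (Fin 2) F) :=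
  commutant _ _ hg.nonscalar (mem_KK.1 hX)

theorem smul_one_mem_KK (g : SpecialLinearGroup (Fin 2) F) (c : F) : c • (1 : Matrix (Fin 2) (Fin 2) F) ∈ KK g := by
  rw [mem_KK, mul_smul_comm, smul_mul_assoc, mul_one, one_mul]

theorem self_mem_KK (g : SpecialLinearGroup (Fin 2) F) : (g : Matrix (Fin 2) (Fin 2) F) ∈ KK g := by rw [mem_KK]

theorem isField_KK {g : SpecialLinearGroup (Fin 2) F} (hg : Irr g) : IsField (KK g) where
  exists_pair_ne := ⟨0, 1, fun h => by
    have h1 := congrArg Subtype.val h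
    exact zero_ne_one h1⟩
  mul_comm := by
    rintro ⟨X, hX⟩ ⟨Y, hY⟩
    obtain ⟨α, β, rfl⟩ := hg.form hX
    obtain ⟨α', β', rfl⟩ := hg.form hY
    apply Subtype.ext
    change (α • (1 : Matrix (Fin 2) (Fin 2) F) + β • (g : Matrix (Fin 2) (Fin 2) F)) *
      (α' • (1 : Matrix (Fin 2) (Fin 2) F) + β' • (g : Matrix (Fin 2) (Fin 2) F)) =
      (α' • (1 : Matrix (Fin 2) (Fin 2) F) + β' • (g : Matrix (Fin 2) (Fin 2) F)) *
      (α • (1 : Matrix (Fin 2) (Fin 2) F) + β • (g : Matrix (Fin 2) (Fin 2) F))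
    simp only [add_mul, mul_add, smul_mul_assoc, mul_smul_comm, one_mul, mul_one]
    module
  mul_inv_cancel := by
    rintro ⟨X, hX⟩ hne
    have hX' := hX
    obtain ⟨α, β, rfl⟩ := hg.form hX
    have hdet : (α • (1 : Matrix (Fin 2) (Fin 2) F) + β • (g : Matrix (Fin 2) (Fin 2) F)).det ≠ 0 := by
      intro h
      obtain ⟨rfl, rfl⟩ := hg _ _ h
      apply hne
      apply Subtype.ext
      simp
    set X : Matrix (Fin 2) (Fin 2) F := α • (1 : Matrix (Fin 2) (Fin 2) F) + β • (g : Matrix (Fin 2) (Fin 2) F) with hXdef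
    have hu : IsUnit X.det := isUnit_iff_ne_zero.2 hdet
    have hinv : X⁻¹ ∈ KK g := by
      rw [mem_KK]
      have h1 := mem_KK.1 hX'
      calc (g : Matrix (Fin 2) (Fin 2) F) * X⁻¹ = X⁻¹ * X * ((g : Matrix (Fin 2) (Fin 2) F) * X⁻¹) := by
            rw [Matrix.nonsing_inv_mul X hu, one_mul]
        _ = X⁻¹ * ((g : Matrix (Fin 2) (Fin 2) F) * X) * X⁻¹ := by rw [h1]; simp only [mul_assoc]
        _ = X⁻¹ * (g : Matrix (Fin 2) (Fin 2) F) * (X * X⁻¹) := by simp only [mul_assoc]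
        _ = _ := by rw [Matrix.mul_nonsing_inv X hu, mul_one]
    exact ⟨⟨X⁻¹, hinv⟩, Subtype.ext (Matrix.mul_nonsing_inv X hu)⟩

theorem isCyclic_aut_KK [Fintype F] {g : SpecialLinearGroup (Fin 2) F} (hg : Irr g) : IsCyclic (KK g ≃+* KK g) := by
  letI := (isField_KK hg).toField
  exact Cfsg.Agent.LieRecognition.FieldSemilinear.isCyclic_ringAut (KK g)

/-- the group of invertible elements of `GL₂` commuting with `g` -/
def KU (g : SpecialLinearGroup (Fin 2) F) : Subgroup (GL (Fin 2) F) :=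
  Subgroup.centralizer {Matrix.SpecialLinearGroup.toGL g}

theorem mem_KU {g : SpecialLinearGroup (Fin 2) F} {A : GL (Fin 2) F} : A ∈ KU g ↔ (A : Matrix (Fin 2) (Fin 2) F) ∈ KK g := by
  rw [KU, Subgroup.mem_centralizer_iff, mem_KK]
  constructor
  · intro h
    exact congrArg Units.val (h _ rfl)
  · rintro h _ rfl
    exact Units.ext h

theorem isCyclic_KU [Fintype F] {g : SpecialLinearGroup (Fin 2) F} (hg : Irr g) : IsCyclic (KU g) := by
  letI := (isField_KK hg).toField
  let f : KU g →* KK g :=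
    { toFun := fun A => ⟨((A : GL (Fin 2) F) : Matrix (Fin 2) (Fin 2) F), mem_KU.1 A.2⟩
      map_one' := rfl
      map_mul' := fun _ _ => rfl }
  refine isCyclic_of_injective_ringHom f ?_
  intro A B h
  apply Subtype.ext
  apply Units.ext
  exact congrArg Subtype.val h

variable [Fintype F]

theorem Th_smul_one (α : MulAut (ProjectiveSpecialLinearGroup (Fin 2) F)) (c : F) :
    Th α (c • (1 : Matrix (Fin 2) (Fin 2) F)) = (sg α c) • (1 : Matrix (Fin 2) (Fin 2) F) := by
  obtain ⟨A, σ, h⟩ := exists_rep α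
  rw [h.Th_eq, h.sg_eq, rg_apply]
  have h1 : (c • (1 : Matrix (Fin 2) (Fin 2) F)).map σ = σ c • (1 : Matrix (Fin 2) (Fin 2) F) := by
    ext i j
    fin_cases i <;> fin_cases j <;> simp
  rw [h1, mul_smul_comm, mul_one, smul_mul_assoc, ← Units.val_mul, mul_inv_cancel, Units.val_one]

/-- **a group of automorphisms normalising a nonsplit torus is metacyclic** -/
theorem metacyclic {g : SpecialLinearGroup (Fin 2) F} (hg : Irr g) {B : Type*} [Group B] [Finite B]
    (φ : B →* MulAut (ProjectiveSpecialLinearGroup (Fin 2) F)) (hφ : Function.Injective φ)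
    (h : ∀ b, φ b (pr g) ∈ Subgroup.zpowers (pr g)) :
    ∃ C : Subgroup B, C.Normal ∧ IsCyclic C ∧ ∀ h : C.Normal, IsCyclic (B ⧸ C) := by
  classical
  -- the image of `g`
  have h1 : ∀ b, ∃ (c : F) (j : ℤ), Th (φ b) (g : Matrix (Fin 2) (Fin 2) F) = c • ((g ^ j : SpecialLinearGroup (Fin 2) F) : Matrix (Fin 2) (Fin 2) F) := by
    intro b
    obtain ⟨y, hy1, hy2⟩ := Th_pr (φ b) g
    obtain ⟨j, hj⟩ := h b
    have h2 : pr y = pr (g ^ j) := by
      rw [map_zpow]
      exact hy2.symm.trans hj.symm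
    obtain ⟨c, hc⟩ := exists_smul_of_pr_eq h2.symm
    exact ⟨c, j, hy1.symm.trans hc⟩
  have hpow : ∀ j : ℤ, ((g ^ j : SpecialLinearGroup (Fin 2) F) : Matrix (Fin 2) (Fin 2) F) ∈ KK g := by
    intro j
    rw [mem_KK, ← Matrix.SpecialLinearGroup.coe_mul, ← Matrix.SpecialLinearGroup.coe_mul, mul_self_zpow, mul_zpow_self]
  have hKcomm : ∀ X ∈ KK g, ∀ Y ∈ KK g, X * Y = Y * X := fun X hX Y hY =>
    congrArg Subtype.val ((isField_KK hg).mul_comm ⟨X, hX⟩ ⟨Y, hY⟩)
  have h2 : ∀ b, ∀ X ∈ KK g, Th (φ b) X ∈ KK g := by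
    intro b X hX
    rw [mem_KK]
    apply (Th (φ b⁻¹)).injective
    have h3 : ∀ Y, Th (φ b⁻¹) (Th (φ b) Y) = Y := by
      intro Y
      have : (Th (φ b⁻¹) * Th (φ b)) Y = Y := by
        rw [← map_mul, ← map_mul, inv_mul_cancel, map_one, map_one]
        rfl
      exact this
    rw [map_mul, map_mul, h3]
    obtain ⟨c, j, hc⟩ := h1 b⁻¹
    rw [hc, smul_mul_assoc, mul_smul_comm, hKcomm _ (hpow j) _ hX]
  have hinv : ∀ b Y, Th (φ b) (Th (φ b⁻¹) Y) = Y := by
    intro b Y
    have : (Th (φ b) * Th (φ b⁻¹)) Y = Y := by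
      rw [← map_mul, ← map_mul, mul_inv_cancel, map_one, map_one]
      rfl
    exact this
  have hinv' : ∀ b Y, Th (φ b⁻¹) (Th (φ b) Y) = Y := by
    intro b Y
    have := hinv b⁻¹ Y
    rwa [inv_inv] at this
  let κ : B →* (KK g ≃+* KK g) := MonoidHom.mk' (fun b =>
    { toFun := fun X => ⟨Th (φ b) X, h2 b _ X.2⟩
      invFun := fun X => ⟨Th (φ b⁻¹) X, h2 b⁻¹ _ X.2⟩
      left_inv := fun X => Subtype.ext (hinv' b X)
      right_inv := fun X => Subtype.ext (hinv b X)
      map_mul' := fun X Y => Subtype.ext (map_mul (Th (φ b)) (X : Matrix (Fin 2) (Fin 2) F) Y)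
      map_add' := fun X Y => Subtype.ext (map_add (Th (φ b)) (X : Matrix (Fin 2) (Fin 2) F) Y) }) fun a b => by
        apply RingEquiv.ext
        intro X
        apply Subtype.ext
        change Th (φ (a * b)) (X : Matrix (Fin 2) (Fin 2) F) = Th (φ a) (Th (φ b) (X : Matrix (Fin 2) (Fin 2) F))
        rw [map_mul, map_mul]
        rfl
  have hκ : ∀ b (X : KK g), ((κ b X : KK g) : Matrix (Fin 2) (Fin 2) F) = Th (φ b) (X : Matrix (Fin 2) (Fin 2) F) := fun _ _ => rfl
  haveI := isCyclic_aut_KK hg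
  haveI := isCyclic_KU hg
  refine ⟨κ.ker, inferInstance, ?_, ?_⟩
  · -- the kernel is cyclic
    have hle : ∀ b ∈ κ.ker, φ b ∈ (KU g).map (lift.comp cj : GL (Fin 2) F →* MulAut (ProjectiveSpecialLinearGroup (Fin 2) F)) := by
      intro b hb
      rw [MonoidHom.mem_ker] at hb
      have hfix : ∀ X ∈ KK g, Th (φ b) X = X := by
        intro X hX
        rw [← hκ b ⟨X, hX⟩, hb]
        rfl
      obtain ⟨A, σ, hA⟩ := exists_rep (φ b)
      have hσ : σ = 1 := by
        apply RingEquiv.ext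
        intro c
        have h3 := hfix _ (smul_one_mem_KK g c)
        rw [Th_smul_one, hA.sg_eq] at h3
        have h4 := congrFun (congrFun h3 0) 0
        simpa using h4
      subst hσ
      refine ⟨A, ?_, ?_⟩
      · have h3 := hfix _ (self_mem_KK g)
        rw [hA.Th_eq, rg_apply] at h3
        have h4 : ((g : Matrix (Fin 2) (Fin 2) F)).map (1 : F ≃+* F) = (g : Matrix (Fin 2) (Fin 2) F) := by
          ext i j; rfl
        rw [h4] at h3
        change A ∈ KU g
        rw [mem_KU, mem_KK]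
        calc (g : Matrix (Fin 2) (Fin 2) F) * (A : Matrix (Fin 2) (Fin 2) F)
            = (A : Matrix (Fin 2) (Fin 2) F) * (g : Matrix (Fin 2) (Fin 2) F) * ((A⁻¹ : GL (Fin 2) F) : Matrix (Fin 2) (Fin 2) F) *
              (A : Matrix (Fin 2) (Fin 2) F) := by rw [h3]
          _ = _ := by rw [mul_assoc, ← Units.val_mul, inv_mul_cancel, Units.val_one, mul_one]
      · rw [Rep, map_one, mul_one] at hA
        exact hA.symm
    have hc1 : IsCyclic ((KU g).map (lift.comp cj : GL (Fin 2) F →* MulAut (ProjectiveSpecialLinearGroup (Fin 2) F))) :=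
      isCyclic_of_surjective _ (MonoidHom.subgroupMap_surjective
        (lift.comp cj : GL (Fin 2) F →* MulAut (ProjectiveSpecialLinearGroup (Fin 2) F)) (KU g))
    let ψ : κ.ker →* (KU g).map (lift.comp cj : GL (Fin 2) F →* MulAut (ProjectiveSpecialLinearGroup (Fin 2) F)) :=
      (φ.comp κ.ker.subtype).codRestrict _ fun b => hle b b.2
    refine isCyclic_of_injective ψ ?_
    intro a b hab
    apply Subtype.ext
    apply hφ
    exact congrArg Subtype.val hab
  · intro _
    have hc2 : IsCyclic κ.range := inferInstance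
    exact isCyclic_of_surjective (QuotientGroup.quotientKerEquivRange κ).symm (QuotientGroup.quotientKerEquivRange κ).symm.surjective

end Cfsg.Agent.H454.Reg.Two
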